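import Mathlib

/-!
# Data of a coset enumeration
-/

set_option autoImplicit false

namespace Cfsg.Agent.Lib.KnownSimple.MultM.M22V

/-- Generated data. -/
def par1 : ℕ := 0x2489f7de75c6db6585d65545134d245040e38c2ca2482071c61851441030c2041000
/-- Generated data. -/
def gix1 : ℕ := 0x26199866616104925262148
/-- Generated data. -/
def dp1 : ℕ := 0x888877777777776666666666555555554444443332210
/-- Generated data. -/
def fa1 : ℕ := 0x2caeaa69a289e79a69a59238e28618207de75d71b69a6585d75965544d24503cf38d30b2ca2892481c61440c206cb24aeb8aaa9fa5f9e88de75c9656e46d989885781655e5147134da49945841039538c2d22912483c81cd3473061851441030c2042040000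
/-- Generated data. -/
def fl1 : ℕ := 0x2644892649864846840498962522149225286194868164922458606094a192621624
/-- Generated data. -/
def fb1 : ℕ := 0x2489fb1f7a376badcb1b6d9a988975a55545244d34a145069039c38c2ca2485481c71921853c53441030c20410299ac9e6ae3aaaa699e8a289e696095d9238626a18207de79d59c6d769965861758f5544cb49145028f38d24d30c2ca2481c61440c2081000
/-- Generated data. -/
def fk1 : ℕ := 0x106418862208831106418883208641888218864208621086220c8220c64110631104410c62230c08a4083026082d400018601400380a040006001c0034110200001c0001c06001e0048a048000000000000700021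
/-- Generated data. -/
def po1 : ℕ := 0x52a9348a3d1a8b44a1d0a83409fcfa7b3c9dcea73389bcda6b3499cca633097cba5b2c95caa532893c9a4b2491c8a43208fc7a3b1c8dc6a33188bc5a2b1489c4a231087c09fafd77b99ccdd6c36194ca5eac146a351a8d2c9148a29148a42a14fc7e3a9d4ea70381c0c66331958ac48240fc7e3f1f8e8743a1d0d46a30180c04623118541c0e028140a05028140a05028140a00000000000
/-- Generated data. -/
def pc1 : ℕ := 0x111111111111111111111111111111111111111111111111111111111111d50e90950e0ddd000d507005070900500d00d0e09000500050500d00e709000000000050000
/-- Generated data. -/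
def pa1 : ℕ := 0x908a849480787a768e8c74926e6a68886466605c705a56546c504e4a6246424c403e523a3836322e2c3c2826201c341a182a16221412100e0c0a0604906d778e8a64422c293c5b8183906d778e8d8a64424161634a35374f6b6d777f8a67604c4a35375175845a3d2b18172f47698481838085805a3a3f5d5f7073715c3e3b5b81765457797a6849697b785655777a684846302e160e111d3957796846302e160e111d1e395758796e4e51533e3b3d2b3335374f6f6e4e51535d6a4e361a1d39556442414c6260402c292b334b5c3e26212520273f5d56381f395750363432180e0a07090d13273f4a351a100f1722252012152d4146312e2220120c090d1321232f47422c140c090d152d433a2612152932180e111b2e2225232f28140c090604010301050b0f1920120c060401030103050b0f172220120c060b0f171c100a0403050b111d0604010507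
/-- Generated data. -/
def can1 : ℕ := 0x2caeaa689e69648e28607de75c6da6585d65544d24503ce34c2ca2481c61440c2040
/-- Generated data. -/
def tb1_0 : ℕ := 0x269ea7e3aec81da186a5a5e9164e166241c38c6ca45721525419234f10b0c7141080
/-- Generated data. -/
def fi1_0 : ℕ := 0x49474382807e7b38363d763172402c6e296c6a243266646362276018205c1d111c57195314510d4f09074c0300
/-- Generated data. -/
def tb1_1 : ℕ := 0x298a3b1e9dc95baab5e056852691245884e7dd2da6482961c64cf15034c2420440c0
/-- Generated data. -/
def fi1_1 : ℕ := 0x4a854483813f7c39797745742f713c6f3a356b692230652d2a6125235e151f5a591b555416100e0b4e4d060501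
/-- Generated data. -/
def tb1_2 : ℕ := 0x2499fa6876b6ec661896a949d39578d06a03de70b25854734c485444383288182001
/-- Generated data. -/
def fi1_2 : ℕ := 0x864684413e7f7d7a487833757342703b6d37263468672e1e2b281a5f215d5b120f5856175213500c0a08044b02

end Cfsg.Agent.Lib.KnownSimple.MultM.M22V
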